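import Mathlib

/-!
# Pulling apart an ideal of finite colength of the plane supported at the origin
-/

set_option autoImplicit false

noncomputable section

universe u

open Polynomial

namespace Groth.Agent.PullApart

section Generic

variable {k : Type u} [Field k] {S : Type u} [CommRing S] [Algebra k[X] S] {n : ℕ}

/-- A linear map to a free module which is surjective at `t = 0`. -/
theorem exists_denominator (θ : S →ₗ[k[X]] (Fin n → k[X]))
    (hsurj : ∀ v : Fin n → k, ∃ f, ∀ i, (θ f i).eval 0 = v i) :
    ∃ d : k[X], d.eval 0 = 1 ∧ ∀ w : Fin n → k[X], ∃ f, θ f = d • w := by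
  let L := LinearMap.range θ
  have hle : (⊤ : Submodule k[X] ((Fin n → k[X]) ⧸ L)) ≤ Ideal.span {(X : k[X])} • ⊤ := by
    intro q _
    obtain ⟨w, rfl⟩ := Submodule.mkQ_surjective L q
    obtain ⟨f, hf⟩ := hsurj fun i => (w i).eval 0
    choose u hu using fun i => X_dvd_iff.2 (show (w i - θ f i).coeff 0 = 0 by
      rw [coeff_zero_eq_eval_zero, eval_sub, hf i, sub_self])
    have h1 : L.mkQ w = (X : k[X]) • L.mkQ u := by
      rw [← map_smul, show (X : k[X]) • u = w - θ f from funext fun i => (hu i).symm, map_sub,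
        show L.mkQ (θ f) = 0 from (Submodule.Quotient.mk_eq_zero L).2 ⟨f, rfl⟩, sub_zero]
    rw [h1]
    exact Submodule.smul_mem_smul (Ideal.mem_span_singleton_self _) trivial
  obtain ⟨d, hd, hkill⟩ := Submodule.exists_sub_one_mem_and_smul_eq_zero_of_fg_of_le_smul
    (Ideal.span {(X : k[X])}) _ Module.Finite.fg_top hle
  refine ⟨d, ?_, fun w => ?_⟩
  · obtain ⟨c, hc⟩ := Ideal.mem_span_singleton.1 hd
    have := congrArg (eval 0) hc
    simpa [sub_eq_zero] using this
  · have h := hkill (L.mkQ w) trivial
    rw [← map_smul, Submodule.mkQ_apply, Submodule.Quotient.mk_eq_zero] at h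
    exact h

/-- The quotient by the kernel is finite flat, and its fibre at `0` is the reduction. -/
theorem family (θ : S →ₗ[k[X]] (Fin n → k[X]))
    (hsurj : ∀ v : Fin n → k, ∃ f, ∀ i, (θ f i).eval 0 = v i) (I : Ideal S) (hI : ∀ f, f ∈ I ↔ θ f = 0) :
    Module.Finite k[X] (S ⧸ I) ∧ Module.Flat k[X] (S ⧸ I) ∧
      ∀ g, (∀ i, (θ g i).eval 0 = 0) → ∃ h, g - (X : k[X]) • h ∈ I := by
  have hker : LinearMap.ker θ = I.restrictScalars k[X] := by
    ext f; simp [hI]
  let e : (S ⧸ I) ≃ₗ[k[X]] LinearMap.range θ :=
    ((Submodule.Quotient.restrictScalarsEquiv k[X] I).symm.trans (Submodule.quotEquivOfEq _ _ hker.symm)).trans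
      θ.quotKerEquivRange
  have : Module.Finite k[X] (S ⧸ I) := Module.Finite.equiv e.symm
  refine ⟨this, ?_, fun g hg => ?_⟩
  · have : Module.Free k[X] (LinearMap.range θ) := Module.Free.of_basis (Submodule.basisOfPid (Pi.basisFun k[X] (Fin n)) _).2
    exact Module.Flat.of_linearEquiv e
  · obtain ⟨d, hd, hrange⟩ := exists_denominator θ hsurj
    choose w hw using fun i => X_dvd_iff.2 (show (θ g i).coeff 0 = 0 by rw [coeff_zero_eq_eval_zero, hg i])
    have hgw : θ g = (X : k[X]) • w := funext hw
    obtain ⟨h, hh⟩ := hrange w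
    obtain ⟨e', he'⟩ := X_dvd_iff.2 (show (d - 1).coeff 0 = 0 by
      rw [coeff_zero_eq_eval_zero, eval_sub, eval_one, hd, sub_self])
    refine ⟨h - e' • g, (hI _).2 ?_⟩
    rw [map_sub, map_smul, map_sub, map_smul, hh, hgw, smul_smul, smul_sub, smul_smul, smul_smul,
      show d = 1 + X * e' by rw [← he']; ring]
    module

end Generic

variable {k : Type u} [Field k]

local notation "A" => MvPolynomial (Fin 2) k

variable {N : Type u} [AddCommGroup N] [Module k[X] N]

/-- Two commuting operators. -/
structure Pair (k : Type u) [Field k] (N : Type u) [AddCommGroup N] [Module k[X] N] where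
  /-- The first operator. -/
  a : Module.End k[X] N
  /-- The second operator. -/
  b : Module.End k[X] N
  comm : a * b = b * a

/-- The commutative algebra generated by the two operators. -/
abbrev Pair.alg (P : Pair k N) : Subalgebra k[X] (Module.End k[X] N) := Algebra.adjoin k[X] {P.a, P.b}

theorem Pair.isMulCommutative (P : Pair k N) : IsMulCommutative P.alg :=
  Algebra.isMulCommutative_adjoin k[X] fun x hx y hy => by
    simp only [Set.mem_insert_iff, Set.mem_singleton_iff] at hx hy
    rcases hx with rfl | rfl <;> rcases hy with rfl | rfl <;> first | rfl | exact P.comm | exact P.comm.symm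

open MvPolynomial in
/-- Induction on polynomials in three variables. -/
theorem induction_txy {P : A[X] → Prop} (hC : ∀ c : k, P (Polynomial.C (MvPolynomial.C c)))
    (hadd : ∀ f g, P f → P g → P (f + g)) (hX : ∀ f, P f → P (f * Polynomial.X))
    (hxy : ∀ (i : Fin 2) f, P f → P (f * Polynomial.C (MvPolynomial.X i))) (f : A[X]) : P f := by
  induction f using Polynomial.induction_on' with
  | add f g hf hg => exact hadd f g hf hg
  | monomial m a =>
    induction m with
    | zero =>
      rw [Polynomial.monomial_zero_left]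
      induction a using MvPolynomial.induction_on with
      | C c => exact hC c
      | add f g hf hg => rw [map_add]; exact hadd _ _ hf hg
      | mul_X f i hf => rw [map_mul]; exact hxy i _ hf
    | succ m ih =>
      rw [← Polynomial.monomial_mul_X]
      exact hX _ ih

/-- Evaluation of a polynomial at the operators. -/
theorem Pair.exists_hom (P : Pair k N) :
    ∃ ρ : A[X] →+* Module.End k[X] N, (∀ p : k[X], ρ (p.map MvPolynomial.C) = algebraMap k[X] _ p) ∧
      ρ (C (MvPolynomial.X 0)) = P.a ∧ ρ (C (MvPolynomial.X 1)) = P.b := by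
  have := P.isMulCommutative
  let s : Fin 2 → P.alg := ![⟨P.a, Algebra.subset_adjoin (Set.mem_insert _ _)⟩,
    ⟨P.b, Algebra.subset_adjoin (Set.mem_insert_of_mem _ rfl)⟩]
  letI : CommRing P.alg := { (inferInstance : Ring P.alg) with mul_comm := fun x y => this.is_comm.comm x y }
  let ρ₀ : A[X] →+* P.alg :=
    eval₂RingHom (MvPolynomial.eval₂Hom ((algebraMap k[X] P.alg).comp C) s) (algebraMap k[X] P.alg X)
  refine ⟨P.alg.val.toRingHom.comp ρ₀, fun p => ?_, ?_, ?_⟩
  · induction p using Polynomial.induction_on' with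
    | add p q hp hq => rw [Polynomial.map_add, map_add, map_add, hp, hq]
    | monomial m a =>
      simp [ρ₀, ← C_mul_X_pow_eq_monomial]
  · simp [ρ₀, s]
  · simp [ρ₀, s]

/-- The evaluation at the curve `t ↦ (a t, b t)`. -/
noncomputable def chi (a b : k[X]) : A[X] →+* k[X] := eval₂RingHom (MvPolynomial.eval₂Hom C ![a, b]) X

/-- An approximate common eigenvector gives a character. -/
theorem eigen (P : Pair k N) (ρ : A[X] →+* Module.End k[X] N) (hρ : ∀ p : k[X], ρ (p.map MvPolynomial.C) = algebraMap k[X] _ p)
    (ha : ρ (C (MvPolynomial.X 0)) = P.a) (hb : ρ (C (MvPolynomial.X 1)) = P.b) (η : N →ₗ[k[X]] k[X]) (z₀ : N)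
    (hz₀ : η z₀ = 1) (K : Submodule k[X] N) (hK : K ≤ LinearMap.ker η) (hKa : ∀ z ∈ K, P.a z ∈ K)
    (hKb : ∀ z ∈ K, P.b z ∈ K) (α β : k[X]) (hza : P.a z₀ - α • z₀ ∈ K) (hzb : P.b z₀ - β • z₀ ∈ K)
    (f : A[X]) (hf : ρ f = 0) : chi α β f = 0 := by
  have key : ∀ f : A[X], (∀ z ∈ K, ρ f z ∈ K) ∧ ρ f z₀ - chi α β f • z₀ ∈ K := by
    intro f
    induction f using induction_txy with
    | hC c =>
      have : ρ (C (MvPolynomial.C c)) = algebraMap k[X] _ (C c) := by rw [← hρ, Polynomial.map_C]
      refine ⟨fun z hz => ?_, ?_⟩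
      · rw [this, Module.algebraMap_end_apply]; exact K.smul_mem _ hz
      · rw [this, Module.algebraMap_end_apply]; simp [chi]
    | hadd f g hf hg =>
      refine ⟨fun z hz => ?_, ?_⟩
      · rw [map_add, LinearMap.add_apply]; exact add_mem (hf.1 z hz) (hg.1 z hz)
      · rw [map_add, LinearMap.add_apply, map_add, add_smul, add_sub_add_comm]; exact add_mem hf.2 hg.2
    | hX f hf =>
      have hT : ρ Polynomial.X = algebraMap k[X] _ Polynomial.X := by rw [← hρ, Polynomial.map_X]
      refine ⟨fun z hz => ?_, ?_⟩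
      · rw [map_mul, Module.End.mul_apply, hT, Module.algebraMap_end_apply, map_smul]; exact K.smul_mem _ (hf.1 z hz)
      · rw [map_mul, Module.End.mul_apply, hT, Module.algebraMap_end_apply, map_smul, map_mul,
          show chi α β Polynomial.X = Polynomial.X by simp [chi], mul_comm, mul_smul, ← smul_sub]
        exact K.smul_mem _ hf.2
    | hxy i f hf =>
      have hG : ∀ z ∈ K, ρ (C (MvPolynomial.X i)) z ∈ K := by
        fin_cases i
        · intro z hz; simpa [ha] using hKa z hz
        · intro z hz; simpa [hb] using hKb z hz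
      have hz : ρ (C (MvPolynomial.X i)) z₀ - chi α β (C (MvPolynomial.X i)) • z₀ ∈ K := by
        fin_cases i
        · simpa [ha, chi] using hza
        · simpa [hb, chi] using hzb
      refine ⟨fun z hz' => ?_, ?_⟩
      · rw [map_mul, Module.End.mul_apply]; exact hf.1 _ (hG z hz')
      · rw [map_mul, Module.End.mul_apply, map_mul]
        have h1 := hf.1 _ hz
        rw [map_sub, map_smul] at h1
        have h2 := add_mem h1 (K.smul_mem (chi α β (C (MvPolynomial.X i))) hf.2)
        rw [smul_sub, smul_smul, sub_add_sub_cancel, mul_comm] at h2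
        exact h2
  have h := (key f).2
  rw [hf, LinearMap.zero_apply, zero_sub] at h
  have := LinearMap.mem_ker.1 (hK (neg_mem h))
  simpa [hz₀] using this

theorem eval_chi (α β : k[X]) (c : k) (f : A[X]) :
    MvPolynomial.eval ![α.eval c, β.eval c] (f.eval (MvPolynomial.C c)) = (chi α β f).eval c := by
  induction f using induction_txy with
  | hC a => simp [chi]
  | hadd f g hf hg => simp [map_add, hf, hg]
  | hX f hf => simp [map_mul, hf, chi]
  | hxy i f hf => fin_cases i <;> simp [map_mul, hf, chi]

theorem sub_C_eval_mem (q : Fin 2 → k) (g : A) :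
    g - MvPolynomial.C (MvPolynomial.eval q g) ∈ Ideal.span (Set.range fun i : Fin 2 => MvPolynomial.X i - MvPolynomial.C (q i)) := by
  induction g using MvPolynomial.induction_on with
  | C a => simp
  | add f g hf hg => rw [map_add, map_add, add_sub_add_comm]; exact add_mem hf hg
  | mul_X f i hf =>
    rw [map_mul, map_mul, MvPolynomial.eval_X,
      show f * MvPolynomial.X i - MvPolynomial.C (MvPolynomial.eval q f) * MvPolynomial.C (q i) =
        MvPolynomial.X i * (f - MvPolynomial.C (MvPolynomial.eval q f)) +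
          MvPolynomial.C (MvPolynomial.eval q f) * (MvPolynomial.X i - MvPolynomial.C (q i)) by ring]
    exact add_mem (Ideal.mul_mem_left _ _ hf) (Ideal.mul_mem_left _ _ (Ideal.subset_span ⟨i, rfl⟩))

end Groth.Agent.PullApart

end
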