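import Groth.Agent.PullApart.Basic

/-!
# The two families
-/

set_option autoImplicit false

noncomputable section

universe u

open Polynomial

namespace Groth.Agent.PullApart

variable {k : Type u} [Field k]

local notation "A" => MvPolynomial (Fin 2) k

section Ops

variable {V : Type u} [AddCommGroup V] [Module k V] {n : ℕ} (b : Module.Basis (Fin n) k V)

/-- Constant vectors. -/
noncomputable def cv (v : V) : Fin n → k[X] := fun i => C (b.repr v i)

lemma cv_add (v w : V) : cv b (v + w) = cv b v + cv b w := funext fun i => by simp [cv]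

lemma cv_smul (a : k) (v : V) : cv b (a • v) = (C a : k[X]) • cv b v := funext fun i => by simp [cv]

lemma cv_zero : cv b (0 : V) = 0 := funext fun i => by simp [cv]

lemma cv_basis (i : Fin n) : cv b (b i) = Pi.basisFun k[X] (Fin n) i := funext fun j => by
  simp [cv, Finsupp.single_apply, Pi.single_apply, apply_ite C, eq_comm]

lemma ext_cv {M : Type u} [AddCommGroup M] [Module k[X] M] {f g : (Fin n → k[X]) →ₗ[k[X]] M}
    (h : ∀ v, f (cv b v) = g (cv b v)) : f = g :=
  (Pi.basisFun k[X] (Fin n)).ext fun i => by rw [← cv_basis b]; exact h _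

/-- The operator extending a linear map. -/
noncomputable def op (T : V →ₗ[k] V) : Module.End k[X] (Fin n → k[X]) :=
  (Pi.basisFun k[X] (Fin n)).constr k[X] fun i => cv b (T (b i))

lemma op_cv (T : V →ₗ[k] V) (v : V) : op b T (cv b v) = cv b (T v) := by
  have h : ∀ w : V, cv b w = ∑ i, (C (b.repr w i) : k[X]) • Pi.basisFun k[X] (Fin n) i := fun w => by
    funext j
    simp [cv, Pi.single_apply]
  conv_rhs => rw [← b.sum_repr v, map_sum]
  rw [h v, map_sum]
  have hs : ∀ (s : Finset (Fin n)) (F : Fin n → V), cv b (∑ i ∈ s, F i) = ∑ i ∈ s, cv b (F i) := fun s F =>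
    map_sum (AddMonoidHom.mk' (cv b) (cv_add b)) F s
  rw [hs]
  refine Finset.sum_congr rfl fun i _ => ?_
  rw [map_smul, op, Module.Basis.constr_basis, map_smul, cv_smul]

/-- A functional extended to constant coefficients. -/
noncomputable def fn (η : V →ₗ[k] k) : (Fin n → k[X]) →ₗ[k[X]] k[X] :=
  (Pi.basisFun k[X] (Fin n)).constr k[X] fun i => C (η (b i))

lemma fn_cv (η : V →ₗ[k] k) (v : V) : fn b η (cv b v) = C (η v) := by
  have h : cv b v = ∑ i, (C (b.repr v i) : k[X]) • Pi.basisFun k[X] (Fin n) i := by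
    funext j
    simp [cv, Pi.single_apply]
  conv_rhs => rw [← b.sum_repr v, map_sum, map_sum]
  rw [h, map_sum]
  refine Finset.sum_congr rfl fun i _ => ?_
  rw [map_smul, fn, Module.Basis.constr_basis, map_smul, smul_eq_mul, smul_eq_mul, map_mul]

/-- Reduction at `t = 0`. -/
noncomputable def ev0 (z : Fin n → k[X]) : V := ∑ i, (z i).eval 0 • b i

lemma ev0_add (z w : Fin n → k[X]) : ev0 b (z + w) = ev0 b z + ev0 b w := by
  simp [ev0, add_smul, Finset.sum_add_distrib]

lemma ev0_smul (p : k[X]) (z : Fin n → k[X]) : ev0 b (p • z) = p.eval 0 • ev0 b z := by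
  simp [ev0, Finset.smul_sum, smul_smul]

lemma ev0_cv (v : V) : ev0 b (cv b v) = v := by
  simp [ev0, cv, b.sum_repr]

lemma ev0_op (T : V →ₗ[k] V) (z : Fin n → k[X]) : ev0 b (op b T z) = T (ev0 b z) := by
  conv_lhs => rw [← (Pi.basisFun k[X] (Fin n)).sum_repr z, map_sum]
  simp only [map_smul, op, Module.Basis.constr_basis, Pi.basisFun_repr]
  have hs : ∀ (s : Finset (Fin n)) (F : Fin n → Fin n → k[X]), ev0 b (∑ i ∈ s, F i) = ∑ i ∈ s, ev0 b (F i) := fun s F =>
    map_sum (AddMonoidHom.mk' (ev0 b) (ev0_add b)) F s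
  rw [hs]
  simp only [ev0_smul, ev0_cv]
  simp [ev0, map_sum]

lemma repr_ev0 (z : Fin n → k[X]) (i : Fin n) : b.repr (ev0 b z) i = (z i).eval 0 := by
  simp [ev0, Finsupp.single_apply, Finsupp.coe_finsetSum, Finset.sum_apply]

end Ops

variable {𝔞 : Ideal (MvPolynomial (Fin 2) k)} {n : ℕ} (b : Module.Basis (Fin n) k (MvPolynomial (Fin 2) k ⧸ 𝔞))


/-- The conclusion of the construction. -/
def Concl (𝔞 : Ideal A) : Prop :=
  ∃ 𝔞' : Ideal A[X],
    @RingHom.Flat k[X] (A[X] ⧸ 𝔞') _ _ ((Ideal.Quotient.mk 𝔞').comp (mapRingHom (algebraMap k A))) ∧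
    @RingHom.Finite k[X] (A[X] ⧸ 𝔞') _ _ ((Ideal.Quotient.mk 𝔞').comp (mapRingHom (algebraMap k A))) ∧
    Ideal.map (evalRingHom (0 : A)) 𝔞' = 𝔞 ∧
    ∀ c : k, c ≠ 0 →
      Ideal.map (evalRingHom (MvPolynomial.C c)) 𝔞' ≤ Ideal.span {MvPolynomial.X 0, MvPolynomial.X 1} ∧
      ∃ p : Fin 2 → k, p ≠ 0 ∧
        Ideal.map (evalRingHom (MvPolynomial.C c)) 𝔞' ≤
          Ideal.span (Set.range (fun i : Fin 2 => MvPolynomial.X i - MvPolynomial.C (p i)))

theorem quot_smul_eq {𝔟 : Ideal (MvPolynomial (Fin 2) k)} (c : k) (v : MvPolynomial (Fin 2) k ⧸ 𝔟) :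
    c • v = algebraMap k (MvPolynomial (Fin 2) k ⧸ 𝔟) c * v := by
  obtain ⟨g, rfl⟩ := Ideal.Quotient.mk_surjective v
  change Ideal.Quotient.mk 𝔟 (c • g) = Ideal.Quotient.mk 𝔟 (MvPolynomial.C c) * _
  rw [MvPolynomial.smul_eq_C_mul, map_mul]

theorem concl_of_pair (P : Pair k (Fin n → k[X])) (h0a : ∀ z, ev0 b (P.a z) = Ideal.Quotient.mk 𝔞 (MvPolynomial.X 0) * ev0 b z)
    (h0b : ∀ z, ev0 b (P.b z) = Ideal.Quotient.mk 𝔞 (MvPolynomial.X 1) * ev0 b z)
    (η₁ : (Fin n → k[X]) →ₗ[k[X]] k[X]) (z₁ : (Fin n → k[X])) (hz₁ : η₁ z₁ = 1) (K₁ : Submodule k[X] (Fin n → k[X])) (hK₁ : K₁ ≤ LinearMap.ker η₁)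
    (hK₁a : ∀ z ∈ K₁, P.a z ∈ K₁) (hK₁b : ∀ z ∈ K₁, P.b z ∈ K₁)
    (hz₁a : P.a z₁ ∈ K₁) (hz₁b : P.b z₁ ∈ K₁)
    (η₂ : (Fin n → k[X]) →ₗ[k[X]] k[X]) (z₂ : (Fin n → k[X])) (hz₂ : η₂ z₂ = 1) (K₂ : Submodule k[X] (Fin n → k[X])) (hK₂ : K₂ ≤ LinearMap.ker η₂)
    (hK₂a : ∀ z ∈ K₂, P.a z ∈ K₂) (hK₂b : ∀ z ∈ K₂, P.b z ∈ K₂) (α β : k[X])
    (hz₂a : P.a z₂ - α • z₂ ∈ K₂) (hz₂b : P.b z₂ - β • z₂ ∈ K₂)
    (hne : ∀ c : k, c ≠ 0 → α.eval c ≠ 0 ∨ β.eval c ≠ 0) : Concl 𝔞 := by
  obtain ⟨ρ, hρ, hρa, hρb⟩ := P.exists_hom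
  let v₁ := cv b (1 : A ⧸ 𝔞)
  letI alg : Algebra k[X] A[X] := (mapRingHom (algebraMap k A)).toAlgebra
  let θ : A[X] →ₗ[k[X]] (Fin n → k[X]) :=
    { toFun := fun f => ρ f v₁
      map_add' := fun f g => by rw [map_add, LinearMap.add_apply]
      map_smul' := fun p f => by
        rw [Algebra.smul_def, RingHom.id_apply, map_mul, Module.End.mul_apply]
        refine (congrArg (fun T : Module.End k[X] (Fin n → k[X]) => T (ρ f v₁)) (hρ p)).trans ?_
        rw [Module.algebraMap_end_apply] }
  have hev : ∀ (f : A[X]) (z : (Fin n → k[X])), ev0 b (ρ f z) = Ideal.Quotient.mk 𝔞 (f.eval 0) * ev0 b z := by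
    intro f
    induction f using induction_txy with
    | hC c =>
      intro z
      rw [show ρ (C (MvPolynomial.C c)) = algebraMap k[X] _ (C c) by rw [← hρ, Polynomial.map_C],
        Module.algebraMap_end_apply, ev0_smul, eval_C, eval_C]
      exact (show c • ev0 b z = algebraMap k (A ⧸ 𝔞) c * ev0 b z from quot_smul_eq _ _).trans rfl
    | hadd f g hf hg => intro z; rw [map_add, LinearMap.add_apply, ev0_add, hf, hg, eval_add, map_add, add_mul]
    | hX f hf =>
      intro z
      rw [map_mul, Module.End.mul_apply, hf, show ρ Polynomial.X = algebraMap k[X] _ Polynomial.X by rw [← hρ, Polynomial.map_X],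
        Module.algebraMap_end_apply, ev0_smul]
      simp
    | hxy i f hf =>
      intro z
      rw [map_mul, Module.End.mul_apply, hf, eval_mul, eval_C, map_mul, mul_assoc]
      fin_cases i
      · simp [hρa, h0a]
      · simp [hρb, h0b]
  have hcoord : ∀ f i, (θ f i).eval 0 = b.repr (Ideal.Quotient.mk 𝔞 (f.eval 0)) i := fun f i => by
    rw [← repr_ev0 b]
    change b.repr (ev0 b (ρ f v₁)) i = _
    rw [hev, ev0_cv, mul_one]
  have hsurj : ∀ v : Fin n → k, ∃ f, ∀ i, (θ f i).eval 0 = v i := by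
    intro v
    obtain ⟨a, ha⟩ := Ideal.Quotient.mk_surjective (b.equivFun.symm v)
    exact ⟨C a, fun i => by rw [hcoord, eval_C, ha, ← b.equivFun_apply, LinearEquiv.apply_symm_apply]⟩
  let 𝔞' := RingHom.ker ρ
  have hI : ∀ f, f ∈ 𝔞' ↔ θ f = 0 := by
    intro f
    refine ⟨fun h => by
      change ρ f v₁ = 0
      rw [RingHom.mem_ker.1 h, LinearMap.zero_apply], fun h => ?_⟩
    obtain ⟨d, hd, hrange⟩ := exists_denominator θ hsurj
    refine LinearMap.ext fun z => ?_
    obtain ⟨g, hg⟩ := hrange z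
    have h1 : d • ρ f z = 0 := by
      rw [← map_smul, ← hg]
      change ρ f (ρ g v₁) = 0
      rw [← Module.End.mul_apply, ← map_mul, mul_comm, map_mul, Module.End.mul_apply,
        show ρ f v₁ = 0 from h, map_zero]
    exact (smul_eq_zero.1 h1).resolve_left fun h0 => by simp [h0] at hd
  obtain ⟨hfin, hflat, hfib⟩ := family θ hsurj 𝔞' hI
  have hmem : ∀ (c : k) (q : Fin 2 → k) (α β : k[X]), q = ![α.eval c, β.eval c] → (∀ f ∈ 𝔞', chi α β f = 0) →
      Ideal.map (evalRingHom (MvPolynomial.C c)) 𝔞' ≤ Ideal.span (Set.range fun i : Fin 2 => MvPolynomial.X i - MvPolynomial.C (q i)) := by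
    intro c q α β hq hch
    rw [Ideal.map_le_iff_le_comap]
    intro f hf
    have h := sub_C_eval_mem q (f.eval (MvPolynomial.C c))
    rw [hq, eval_chi, hch f hf, eval_zero, map_zero, sub_zero, ← hq] at h
    exact h
  refine ⟨𝔞', ?_, ?_, ?_, fun c hc => ⟨?_, ?_⟩⟩
  · exact RingHom.flat_algebraMap_iff.2 hflat
  · exact RingHom.finite_algebraMap.2 hfin
  · refine le_antisymm ?_ ?_
    · rw [Ideal.map_le_iff_le_comap]
      intro f hf
      rw [Ideal.mem_comap, coe_evalRingHom, ← Ideal.Quotient.eq_zero_iff_mem]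
      have := hev f v₁
      rw [show ρ f = 0 from hf, LinearMap.zero_apply, ev0_cv, mul_one] at this
      rw [← this]
      simp [ev0]
    · intro a ha
      obtain ⟨h, hh⟩ := hfib (C a) fun i => by
        rw [hcoord, eval_C, Ideal.Quotient.eq_zero_iff_mem.2 ha, map_zero, Finsupp.zero_apply]
      have := Ideal.mem_map_of_mem (evalRingHom (0 : A)) hh
      rw [map_sub, Algebra.smul_def, map_mul] at this
      simpa [RingHom.algebraMap_toAlgebra] using this
  · have h := hmem c (fun _ => 0) 0 0 (by funext i; fin_cases i <;> simp) fun f hf =>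
      eigen P ρ hρ hρa hρb η₁ z₁ hz₁ K₁ hK₁ hK₁a hK₁b 0 0 (by simpa using hz₁a) (by simpa using hz₁b) f hf
    refine h.trans (Ideal.span_le.2 ?_)
    rintro _ ⟨i, rfl⟩
    fin_cases i <;> simp <;> exact Ideal.subset_span (by simp)
  · refine ⟨![α.eval c, β.eval c], fun h0 => ?_, hmem c _ α β rfl fun f hf =>
      eigen P ρ hρ hρa hρb η₂ z₂ hz₂ K₂ hK₂ hK₂a hK₂b α β hz₂a hz₂b f hf⟩
    rcases hne c hc with h | h
    · exact h (congrFun h0 0)
    · exact h (congrFun h0 1)

theorem exists_family [Module.Finite k (A ⧸ 𝔞)] (hn : 2 ≤ Module.finrank k (A ⧸ 𝔞))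
    (hsupp : 𝔞.radical = Ideal.span {MvPolynomial.X 0, MvPolynomial.X 1}) : Concl 𝔞 := by
  classical
  let V := A ⧸ 𝔞
  let x : V := Ideal.Quotient.mk 𝔞 (MvPolynomial.X 0)
  let y : V := Ideal.Quotient.mk 𝔞 (MvPolynomial.X 1)
  let b := Module.finBasis k V
  have hle : ∀ g ∈ 𝔞, MvPolynomial.aeval (0 : Fin 2 → k) g = 0 := by
    intro g hg
    have h := hsupp ▸ Ideal.le_radical hg
    refine Submodule.span_induction ?_ (map_zero _) (fun _ _ _ _ h₁ h₂ => by rw [map_add, h₁, h₂, add_zero])
      (fun r _ _ h => by rw [smul_eq_mul, map_mul, h, mul_zero]) h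
    rintro _ (rfl | rfl) <;> simp
  let ε : V →ₐ[k] k := Ideal.Quotient.liftₐ 𝔞 (MvPolynomial.aeval 0) hle
  have hεx : ε x = 0 := (Ideal.Quotient.lift_mk _ _ _).trans (MvPolynomial.aeval_X _ _)
  have hεy : ε y = 0 := (Ideal.Quotient.lift_mk _ _ _).trans (MvPolynomial.aeval_X _ _)
  have hnilX : ∀ i : Fin 2, IsNilpotent (Ideal.Quotient.mk 𝔞 (MvPolynomial.X i)) := fun i => by
    have : (MvPolynomial.X i : A) ∈ 𝔞.radical := hsupp ▸ Ideal.subset_span (by fin_cases i <;> simp)
    obtain ⟨m, hm⟩ := this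
    exact ⟨m, by rw [← map_pow]; exact Ideal.Quotient.eq_zero_iff_mem.2 hm⟩
  have hεmk : ∀ g : A, ε (Ideal.Quotient.mk 𝔞 g) = MvPolynomial.eval 0 g := fun g => by
    refine (Ideal.Quotient.lift_mk _ _ _).trans ?_
    exact MvPolynomial.aeval_eq_eval _ |> fun h => congrArg (fun F => F g) h
  have hn' : 2 ≤ Module.finrank k V := hn
  have hnil : ∀ v : V, IsNilpotent (v - algebraMap k V (ε v)) := by
    intro v
    obtain ⟨g, rfl⟩ := Ideal.Quotient.mk_surjective v
    have h := sub_C_eval_mem (0 : Fin 2 → k) g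
    rw [hεmk]
    change IsNilpotent (Ideal.Quotient.mk 𝔞 g - Ideal.Quotient.mk 𝔞 (MvPolynomial.C _))
    rw [← map_sub]
    have h2 : Ideal.Quotient.mk 𝔞 (g - MvPolynomial.C (MvPolynomial.eval 0 g)) ∈ nilradical V := by
      have h3 := Ideal.mem_map_of_mem (Ideal.Quotient.mk 𝔞) h
      refine (Ideal.map_le_iff_le_comap.2 (Ideal.span_le.2 ?_)) h3
      rintro _ ⟨i, rfl⟩
      change _ ∈ nilradical V
      rw [mem_nilradical]
      simpa using hnilX i
    exact mem_nilradical.1 h2
  have hunit : ∀ v : V, ε v ≠ 0 → IsUnit v := by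
    intro v hv
    have := (hnil v).isUnit_add_left_of_commute ((Ne.isUnit hv).map (algebraMap k V)) (Commute.all _ _)
    rwa [add_sub_cancel] at this
  have : Nontrivial V := Module.nontrivial_of_finrank_pos (R := k) (by omega)
  obtain ⟨N₀, hN₀⟩ := hnilX 0
  have hex : ∃ l, x ^ l = 0 := ⟨N₀, hN₀⟩
  let l := Nat.find hex
  have hl : x ^ l = 0 := Nat.find_spec hex
  have hl0 : l ≠ 0 := fun h => one_ne_zero (α := V) (by rw [← pow_zero x, ← h]; exact hl)
  let mx : V →ₗ[k] V := LinearMap.mulLeft k x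
  let my : V →ₗ[k] V := LinearMap.mulLeft k y
  by_cases hblock : y ∈ LinearMap.range mx
  · -- one Jordan block: `V = k[x]`
    let R := Algebra.adjoin k {x}
    have hx : x ∈ R := Algebra.subset_adjoin rfl
    have hgen : ∀ v : V, ∃ p : k[X], Polynomial.aeval x p = v := by
      have hall : ∀ m : ℕ, ∀ v : V, ∃ (p : k[X]) (u : V), v = Polynomial.aeval x p + x ^ m * u := by
        intro m
        induction m with
        | zero => exact fun v => ⟨0, v, by simp⟩
        | succ m ih =>
          intro v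
          obtain ⟨p, u, rfl⟩ := ih v
          have hu : ∃ u', u = algebraMap k V (ε u) + x * u' := by
            obtain ⟨g, rfl⟩ := Ideal.Quotient.mk_surjective u
            obtain ⟨w, hw⟩ := hblock
            have h := sub_C_eval_mem (0 : Fin 2 → k) g
            have h3 := Ideal.mem_map_of_mem (Ideal.Quotient.mk 𝔞) h
            have h4 : Ideal.map (Ideal.Quotient.mk 𝔞) (Ideal.span (Set.range fun i : Fin 2 =>
                MvPolynomial.X i - MvPolynomial.C ((0 : Fin 2 → k) i))) ≤ Ideal.span {x} := by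
              rw [Ideal.map_le_iff_le_comap, Ideal.span_le]
              rintro _ ⟨i, rfl⟩
              fin_cases i
              · simpa [x] using Ideal.mem_span_singleton_self x
              · refine Ideal.mem_span_singleton.2 ⟨w, ?_⟩
                simpa [mx, y] using hw.symm
            obtain ⟨u', hu'⟩ := Ideal.mem_span_singleton.1 (h4 h3)
            refine ⟨u', ?_⟩
            rw [← hu', hεmk, map_sub]
            change _ = Ideal.Quotient.mk 𝔞 (MvPolynomial.C _) + _
            ring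
          obtain ⟨u', hu'⟩ := hu
          refine ⟨p + Polynomial.C (ε u) * Polynomial.X ^ m, u', ?_⟩
          conv_lhs => rw [hu']
          rw [map_add, map_mul, Polynomial.aeval_C, map_pow, Polynomial.aeval_X]
          ring
      intro v
      obtain ⟨p, u, hv⟩ := hall l v
      exact ⟨p, by rw [hv, hl, zero_mul, add_zero]⟩
    obtain ⟨g, hg⟩ := hgen y
    have hg0 : g.eval 0 = 0 := by
      have h := Polynomial.aeval_algHom_apply ε x g
      rw [hεx, hg, hεy] at h
      simpa using h
    have hl2 : 2 ≤ l := by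
      by_contra hlt
      have hl1 : l = 1 := by omega
      have hx0 : x = 0 := by simpa [hl1] using hl
      have : Module.finrank k V ≤ 1 := finrank_le_one (1 : V) fun v => by
        obtain ⟨p, hp⟩ := hgen v
        exact ⟨p.eval 0, by
          rw [← hp, hx0, ← map_zero (algebraMap k V), Polynomial.aeval_algebraMap_apply, coe_aeval_eq_eval]
          exact (show (Polynomial.eval 0 p) • (1 : V) = algebraMap k V (Polynomial.eval 0 p) * 1 from quot_smul_eq _ _).trans (mul_one _)⟩
      omega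
    let last : V := x ^ (l - 1)
    have hlast : last ≠ 0 := Nat.find_min hex (by omega)
    have hxlast : x * last = 0 := by
      change x * x ^ (l - 1) = 0
      rw [← pow_succ', show l - 1 + 1 = l by omega, hl]
    obtain ⟨η, hη⟩ := Module.Projective.exists_dual_ne_zero k hlast
    -- the perturbation
    have hdual : ∃ μ : V →ₗ[k] k, μ last = 1 := ⟨(η last)⁻¹ • η, by simp [hη]⟩
    obtain ⟨μ, hμ⟩ := hdual
    let E : V →ₗ[k] V := μ.smulRight last
    let a : Module.End k[X] (Fin (Module.finrank k V) → k[X]) := op b mx + (X : k[X]) • op b E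
    let P : Pair k (Fin (Module.finrank k V) → k[X]) :=
      ⟨a, Polynomial.aeval a (g.map (C : k →+* k[X])), (Commute.all (Polynomial.X : (k[X])[X]) _).map (Polynomial.aeval a) |> fun h => by
        simpa using h.eq⟩
    have haeval : ∀ (p : k[X]) (z : Fin (Module.finrank k V) → k[X]),
        ev0 b (Polynomial.aeval a (p.map (C : k →+* k[X])) z) = Polynomial.aeval x p * ev0 b z := by
      intro p
      induction p using Polynomial.induction_on with
      | C c =>
        intro z
        rw [Polynomial.map_C, Polynomial.aeval_C, Polynomial.aeval_C, Module.algebraMap_end_apply, ev0_smul, eval_C]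
        exact (show c • ev0 b z = algebraMap k V c * ev0 b z from quot_smul_eq _ _)
      | add p q hp hq => intro z; simp [Polynomial.map_add, ev0_add, hp, hq, add_mul]
      | monomial m c ih =>
        intro z
        rw [pow_succ, ← mul_assoc, Polynomial.map_mul, Polynomial.map_X, map_mul, Polynomial.aeval_X, Module.End.mul_apply, ih, map_mul]
        simp [a, ev0_add, ev0_smul, ev0_op, mx]
        ring
    have hεa : ∀ z, fn b ε.toLinearMap (a z) = 0 := fun z => by
      have h : fn b ε.toLinearMap ∘ₗ a = 0 := ext_cv b fun v => by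
        simp only [a, LinearMap.comp_apply, LinearMap.add_apply, LinearMap.smul_apply, op_cv, map_add, map_smul, fn_cv,
          LinearMap.zero_apply]
        simp [mx, E, hεx, last, show l - 1 ≠ 0 by omega]
      exact LinearMap.congr_fun h z
    have hεb : ∀ z, fn b ε.toLinearMap (Polynomial.aeval a (g.map (C : k →+* k[X])) z) = 0 := fun z => by
      obtain ⟨g', hg'⟩ := X_dvd_iff.2 (show g.coeff 0 = 0 by rw [coeff_zero_eq_eval_zero, hg0])
      rw [hg', Polynomial.map_mul, Polynomial.map_X, map_mul, Polynomial.aeval_X, Module.End.mul_apply]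
      exact hεa _
    have ha : a (cv b last) = (X : k[X]) • cv b last := by
      simp [a, op_cv, mx, E, hxlast, hμ, cv_zero]
    refine concl_of_pair b P (fun z => ?_) (fun z => ?_)
      (fn b ε.toLinearMap) (cv b 1) (by simp [fn_cv]) (LinearMap.ker (fn b ε.toLinearMap)) le_rfl ?_ ?_ ?_ ?_
      (fn b μ) (cv b last) (by rw [fn_cv, hμ, map_one]) ⊥ bot_le ?_ ?_ Polynomial.X g ?_ ?_ (fun c hc => Or.inl (by simpa using hc))
    · simp [P, a, ev0_add, ev0_smul, ev0_op, mx, x]
    · exact (haeval g z).trans (by rw [hg])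
    · exact fun z _ => hεa z
    · exact fun z _ => hεb z
    · exact hεa _
    · exact hεb _
    · intro z hz; rw [(Submodule.mem_bot _).1 hz, map_zero]; exact zero_mem _
    · intro z hz; rw [(Submodule.mem_bot _).1 hz, map_zero]; exact zero_mem _
    · rw [Submodule.mem_bot, sub_eq_zero]; exact ha
    · rw [Submodule.mem_bot, sub_eq_zero]
      change Polynomial.aeval a (g.map (C : k →+* k[X])) (cv b last) = g • cv b last
      have hall : ∀ p : (k[X])[X], Polynomial.aeval a p (cv b last) = p.eval X • cv b last := by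
        intro p
        induction p using Polynomial.induction_on with
        | C c => simp [Module.algebraMap_end_apply]
        | add p q hp hq => simp [hp, hq, add_smul]
        | monomial m c ih =>
          rw [pow_succ, ← mul_assoc, map_mul, Polynomial.aeval_X, Module.End.mul_apply, ha, map_smul, ih, smul_smul]
          congr 1
          simp; ring
      rw [hall, Polynomial.eval_map, Polynomial.eval₂_C_X]
  · -- several Jordan blocks
    let top : V →ₗ[k] V := LinearMap.mulLeft k (x ^ (l - 1))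
    have hker : LinearMap.ker top ≤ LinearMap.ker ε.toLinearMap := by
      intro v hv
      by_contra hne
      refine Nat.find_min hex (by omega : l - 1 < l) ?_
      exact (hunit v hne).mul_left_eq_zero.1 hv
    obtain ⟨lam, hlam⟩ := LinearMap.exists_extend
      ((LinearMap.ker top).liftQ ε.toLinearMap hker ∘ₗ top.quotKerEquivRange.symm.toLinearMap)
    have hlam' : ∀ v, lam (x ^ (l - 1) * v) = ε v := fun v => by
      have h := LinearMap.congr_fun hlam ⟨top v, LinearMap.mem_range_self top v⟩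
      simp only [LinearMap.comp_apply, Submodule.subtype_apply] at h
      refine h.trans ?_
      change (LinearMap.ker top).liftQ ε.toLinearMap hker (top.quotKerEquivRange.symm ⟨top v, _⟩) = _
      rw [LinearMap.quotKerEquivRange_symm_apply_image]
      rfl
    let E : V →ₗ[k] V := ∑ j ∈ Finset.range l, ((lam ∘ₗ LinearMap.mulLeft k (x ^ j)).smulRight (x ^ (l - 1 - j)))
    have hE : ∀ v, E v = ∑ j ∈ Finset.range l, lam (x ^ j * v) • x ^ (l - 1 - j) := fun v => by simp [E]
    have hEx : ∀ v, E (x * v) = x * E v := by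
      intro v
      rw [hE, hE, Finset.mul_sum]
      have h1 : ∀ j ∈ Finset.range l, x * lam (x ^ j * v) • x ^ (l - 1 - j) = lam (x ^ j * v) • x ^ (l - j) := by
        intro j hj
        rw [Finset.mem_range] at hj
        rw [mul_smul_comm, ← pow_succ', show l - 1 - j + 1 = l - j by omega]
      rw [Finset.sum_congr rfl h1]
      obtain ⟨l', hl'⟩ : ∃ l', l = l' + 1 := ⟨l - 1, by omega⟩
      rw [hl', Finset.sum_range_succ, Finset.sum_range_succ', Nat.sub_zero, ← hl', hl, smul_zero, add_zero, ← mul_assoc,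
        ← pow_succ, ← hl', hl, zero_mul, map_zero, zero_smul, add_zero]
      refine Finset.sum_congr rfl fun j _ => ?_
      rw [← mul_assoc, ← pow_succ, show l - 1 - j = l - (j + 1) by omega]
    have hEmod : ∀ v, E v - algebraMap k V (ε v) ∈ LinearMap.range mx := by
      intro v
      obtain ⟨l', hl'⟩ : ∃ l', l = l' + 1 := ⟨l - 1, by omega⟩
      rw [hE, hl', Finset.sum_range_succ, show l' + 1 - 1 - l' = 0 by omega, pow_zero,
        show l' = l - 1 by omega, hlam', Algebra.algebraMap_eq_smul_one, add_sub_cancel_right]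
      refine sum_mem fun j hj => Submodule.smul_mem _ _ ⟨x ^ (l - 1 - j - 1), ?_⟩
      rw [Finset.mem_range] at hj
      change x * _ = _
      rw [← pow_succ', show l - 1 - j - 1 + 1 = l - 1 + 1 - 1 - j by omega]
    have hεrange : ∀ v ∈ LinearMap.range mx, ε v = 0 := by
      rintro _ ⟨w, rfl⟩
      simp [mx, hεx]
    have hεE : ∀ v, ε (E v) = ε v := fun v => by
      have h := hεrange _ (hEmod v)
      rw [map_sub, AlgHom.commutes, sub_eq_zero] at h
      exact h
    -- the socle vector modulo `x`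
    obtain ⟨N₁, hN₁⟩ := hnilX 1
    have hexj : ∃ j, y ^ j ∈ LinearMap.range mx := ⟨N₁, by rw [show y ^ N₁ = 0 from hN₁]; exact zero_mem _⟩
    have hj2 : 2 ≤ Nat.find hexj := by
      rcases hj : Nat.find hexj with _ | _ | j
      · exfalso
        have hs := Nat.find_spec hexj
        rw [hj] at hs
        have h := hεrange _ hs
        simp at h
      · exfalso
        have hs := Nat.find_spec hexj
        rw [hj] at hs
        exact hblock (by simpa using hs)
      · omega
    let w : V := y ^ (Nat.find hexj - 1)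
    have hw : w ∉ LinearMap.range mx := Nat.find_min hexj (by omega)
    have hεw : ε w = 0 := by
      change ε (y ^ _) = 0
      rw [map_pow, hεy, zero_pow (by omega)]
    obtain ⟨ν, hνw, hν⟩ := Submodule.exists_dual_map_eq_bot_of_notMem hw inferInstance
    have hν' : ∀ v ∈ LinearMap.range mx, ν v = 0 := fun v hv => by
      have : ν v ∈ (LinearMap.range mx).map ν := Submodule.mem_map_of_mem hv
      rwa [hν, Submodule.mem_bot] at this
    let a := op b mx
    let bb := op b my + (X : k[X]) • op b E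
    let P : Pair k (Fin (Module.finrank k V) → k[X]) := ⟨a, bb, ext_cv b fun v => by
      simp only [a, bb, Module.End.mul_apply, LinearMap.add_apply, LinearMap.smul_apply, op_cv, map_add, map_smul]
      simp [mx, my, hEx, mul_left_comm]⟩
    have hεa : ∀ z, fn b ε.toLinearMap (a z) = 0 := fun z => by
      have h : fn b ε.toLinearMap ∘ₗ a = 0 := ext_cv b fun v => by simp [a, op_cv, fn_cv, mx, hεx]
      exact LinearMap.congr_fun h z
    have hεb : ∀ z, fn b ε.toLinearMap (bb z) = X * fn b ε.toLinearMap z := fun z => by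
      have h : fn b ε.toLinearMap ∘ₗ bb = (X : k[X]) • fn b ε.toLinearMap := ext_cv b fun v => by
        simp [bb, op_cv, fn_cv, my, hεy, hεE]
      exact LinearMap.congr_fun h z
    refine concl_of_pair b P (fun z => ?_) (fun z => ?_)
      (fn b ((ν w)⁻¹ • ν)) (cv b w) (by simp [fn_cv, hνw]) (LinearMap.range a) ?_ ?_ ?_ ?_ ?_
      (fn b ε.toLinearMap) (cv b 1) (by simp [fn_cv]) (LinearMap.ker (fn b ε.toLinearMap)) le_rfl ?_ ?_ 0 Polynomial.X ?_ ?_
      (fun c hc => Or.inr (by simpa using hc))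
    · simp [P, a, ev0_op, mx, x]
    · simp [P, bb, ev0_add, ev0_smul, ev0_op, my, y]
    · have h : fn b ((ν w)⁻¹ • ν) ∘ₗ a = 0 := ext_cv b fun v => by
        simp [a, op_cv, fn_cv, hν' _ (LinearMap.mem_range_self mx v)]
      rintro _ ⟨z, rfl⟩
      exact LinearMap.congr_fun h z
    · rintro _ ⟨z, rfl⟩
      exact ⟨a z, rfl⟩
    · rintro _ ⟨z, rfl⟩
      exact ⟨bb z, LinearMap.congr_fun P.comm z⟩
    · exact LinearMap.mem_range_self _ _
    · have h1 : my w ∈ LinearMap.range mx := by
        have := Nat.find_spec hexj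
        change y * y ^ _ ∈ _
        rwa [← pow_succ', show Nat.find hexj - 1 + 1 = Nat.find hexj by omega]
      have h2 : E w ∈ LinearMap.range mx := by simpa [hεw] using hEmod w
      obtain ⟨u₁, hu₁⟩ := h1
      obtain ⟨u₂, hu₂⟩ := h2
      refine ⟨cv b u₁ + (X : k[X]) • cv b u₂, ?_⟩
      simp [P, a, bb, op_cv, hu₁, hu₂]
    · exact fun z _ => hεa z
    · intro z hz
      rw [LinearMap.mem_ker] at hz ⊢
      exact (hεb z).trans (by rw [hz, mul_zero])
    · simp [P, hεa]
    · simp [P, hεb]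

end Groth.Agent.PullApart

end
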